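import Groth.Agent.QC.Sections
import Groth.Agent.CliffSm.QuadRoots
import Groth.Agent.S0585

/-!
Projectivity of the sections of a quasi-coherent module is local on affine opens.
-/

set_option autoImplicit false
set_option linter.style.haveILetI false
set_option backward.isDefEq.respectTransparency false

universe u

open CategoryTheory AlgebraicGeometry TopologicalSpace
open Groth.Agent.QC (res resO res_smul res_res)
open scoped TensorProduct

noncomputable section

namespace Groth.Agent.ProjLocal

theorem projective_trans {R C W : Type u} [CommRing R] [CommRing C] [Algebra R C] [AddCommGroup W] [Module R W]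
    [Module C W] [IsScalarTower R C W] [Module.Projective R C] [Module.Projective C W] : Module.Projective R W := by
  obtain ⟨s, hs⟩ := Module.projective_def'.1 (inferInstance : Module.Projective C W)
  classical
  haveI : Module.Projective R (W →₀ C) := Module.Projective.of_equiv (finsuppLequivDFinsupp R).symm
  refine Module.Projective.of_split (s.restrictScalars R) ((Finsupp.linearCombination C id).restrictScalars R) ?_
  exact LinearMap.ext fun x => LinearMap.congr_fun hs x

/-- Projectivity descends from a covering family of algebras. -/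
theorem projective_of_family {A : Type u} [CommRing A] {ι : Type} [Finite ι] (B : ι → Type u)
    [∀ i, CommRing (B i)] [∀ i, Algebra A (B i)] [∀ i, Module.Flat A (B i)]
    (hcov : ∀ p : PrimeSpectrum A, ∃ i, p ∈ Set.range (PrimeSpectrum.comap (algebraMap A (B i))))
    (M : Type u) [AddCommGroup M] [Module A M] (h : ∀ i, Module.Projective (B i) (B i ⊗[A] M)) :
    Module.Projective A M := by
  classical
  haveI := Fintype.ofFinite ι
  haveI := CliffSm.faithfullyFlat_pi B hcov
  have key : Module.Projective (∀ i, B i) ((∀ i, B i) ⊗[A] M) := by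
    letI : ∀ i, Algebra (∀ j, B j) (B i) := fun i => (Pi.evalRingHom B i).toAlgebra
    haveI : ∀ i, IsScalarTower A (∀ j, B j) (B i) := fun i => IsScalarTower.of_algebraMap_eq fun _ => rfl
    haveI : ∀ i, Module.Projective (∀ j, B j) (B i) := fun i => by
      refine Module.Projective.of_split (M := ∀ j, B j)
        { toFun := Pi.single i
          map_add' := fun a b => Pi.single_add i a b
          map_smul' := fun r a => funext fun j => ?_ }
        { toFun := fun r => r i
          map_add' := fun _ _ => rfl
          map_smul' := fun r a => rfl } (LinearMap.ext fun a => by simp)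
      show (Pi.single i (r i * a) : ∀ j, B j) j = r j * (Pi.single i a : ∀ j, B j) j
      by_cases hj : j = i
      · subst hj; simp
      · simp [Pi.single_eq_of_ne hj]
    haveI : ∀ i, Module.Projective (∀ j, B j) (B i ⊗[A] M) := fun i =>
      haveI := h i
      projective_trans (C := B i)
    let φ : (∀ i, B i) ⊗[A] M →ₗ[∀ i, B i] ∀ i, B i ⊗[A] M :=
      LinearMap.pi fun i => TensorProduct.AlgebraTensorModule.map (Algebra.linearMap (∀ j, B j) (B i)) LinearMap.id
    have hφ : Function.Bijective φ := by
      have : (φ : _ → _) = TensorProduct.piLeft A M B := by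
        funext z
        induction z using TensorProduct.induction_on with
        | zero => simp
        | tmul a n => funext i; simp [φ]; rfl
        | add a b ha hb => rw [map_add, map_add, ha, hb]
      rw [this]
      exact (TensorProduct.piLeft A M B).bijective
    haveI : Module.Projective (∀ j, B j) (∀ i, B i ⊗[A] M) :=
      Module.Projective.of_equiv (DFinsupp.linearEquivFunOnFintype (R := ∀ j, B j))
    exact Module.Projective.of_equiv (LinearEquiv.ofBijective φ hφ).symm
  exact S0585.result A (∀ i, B i) M

variable {X : Scheme.{u}} (F : X.Modules)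

/-- Restriction to a basic open, linearly. -/
def resL {U : X.Opens} (f : Γ(X, U)) :
    letI := Module.compHom Γ(F, X.basicOpen f) (resO X (X.basicOpen_le f))
    Γ(F, U) →ₗ[Γ(X, U)] Γ(F, X.basicOpen f) :=
  letI := Module.compHom Γ(F, X.basicOpen f) (resO X (X.basicOpen_le f))
  { toFun := res F (X.basicOpen_le f)
    map_add' := map_add _
    map_smul' := fun r s => res_smul F _ r s }

theorem isLocalizedModule_resL [Coh.IsQCoh F] {U : X.Opens} (hU : IsAffineOpen U) (f : Γ(X, U)) :
    letI := Module.compHom Γ(F, X.basicOpen f) (resO X (X.basicOpen_le f))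
    IsLocalizedModule (Submonoid.powers f) (resL F f) := by
  letI := Module.compHom Γ(F, X.basicOpen f) (resO X (X.basicOpen_le f))
  haveI : F.IsQuasicoherent := (inferInstance : Coh.IsQCoh F)
  have hloc := QC.isLoc_of_isQCoh hU (M := F)
  haveI := hU.isLocalization_basicOpen f
  refine IsLocalizedModule.Away.mk_of_addCommGroup ?_ (fun x => ?_) (fun x hx => ?_)
  · rw [Module.End.isUnit_iff]
    exact (IsLocalization.Away.algebraMap_isUnit (S := Γ(X, X.basicOpen f)) f).smul_bijective
  · obtain ⟨n, s, hs⟩ := hloc.exists_extend f x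
    refine ⟨n, s, ?_⟩
    show resO X (X.basicOpen_le f) (f ^ n) • x = _
    rw [map_pow]
    exact hs.symm
  · exact hloc.exists_pow_smul_eq_zero f x hx

theorem projective_basicOpen [Coh.IsQCoh F] {U : X.Opens} (hU : IsAffineOpen U) (f : Γ(X, U))
    [Module.Projective Γ(X, U) Γ(F, U)] : Module.Projective Γ(X, X.basicOpen f) Γ(F, X.basicOpen f) := by
  letI := (resO X (X.basicOpen_le f)).toAlgebra
  letI := Module.compHom Γ(F, X.basicOpen f) (resO X (X.basicOpen_le f))
  haveI : IsScalarTower Γ(X, U) Γ(X, X.basicOpen f) Γ(F, X.basicOpen f) :=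
    IsScalarTower.of_algebraMap_smul fun _ _ => rfl
  haveI : IsLocalization.Away f Γ(X, X.basicOpen f) := hU.isLocalization_basicOpen f
  haveI := isLocalizedModule_resL F hU f
  exact Module.projective_of_isLocalizedModule (Submonoid.powers f) (resL F f)

theorem projective_of_span [Coh.IsQCoh F] {U : X.Opens} (hU : IsAffineOpen U) (s : Finset Γ(X, U))
    (hs : Ideal.span (s : Set Γ(X, U)) = ⊤)
    (h : ∀ f : s, Module.Projective Γ(X, X.basicOpen f.1) Γ(F, X.basicOpen f.1)) :
    Module.Projective Γ(X, U) Γ(F, U) := by
  let e := s.equivFin.symm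
  let B : Fin s.card → Type u := fun i => Γ(X, X.basicOpen (e i).1)
  letI : ∀ i, Algebra Γ(X, U) (B i) := fun i => (resO X (X.basicOpen_le (e i).1)).toAlgebra
  haveI hL : ∀ i, IsLocalization.Away (e i).1 (B i) := fun i => hU.isLocalization_basicOpen (e i).1
  haveI : ∀ i, Module.Flat Γ(X, U) (B i) := fun i => IsLocalization.flat (B i) (Submonoid.powers (e i).1)
  refine projective_of_family B (fun p => ?_) Γ(F, U) fun i => ?_
  · obtain ⟨f, hf, hfp⟩ : ∃ f ∈ s, f ∉ p.asIdeal := by
      by_contra hcon
      push Not at hcon
      exact p.2.ne_top (top_unique (hs ▸ Ideal.span_le.2 hcon))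
    refine ⟨e.symm ⟨f, hf⟩, ?_⟩
    rw [PrimeSpectrum.localization_away_comap_range (B (e.symm ⟨f, hf⟩)) (e (e.symm ⟨f, hf⟩)).1,
      Equiv.apply_symm_apply]
    exact hfp
  · letI := Module.compHom Γ(F, X.basicOpen (e i).1) (resO X (X.basicOpen_le (e i).1))
    letI : Module (B i) Γ(F, X.basicOpen (e i).1) :=
      (inferInstance : Module Γ(X, X.basicOpen (e i).1) Γ(F, X.basicOpen (e i).1))
    haveI : IsScalarTower Γ(X, U) (B i) Γ(F, X.basicOpen (e i).1) :=
      IsScalarTower.of_algebraMap_smul fun _ _ => rfl
    haveI := isLocalizedModule_resL F hU (e i).1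
    haveI : Module.Projective (B i) Γ(F, X.basicOpen (e i).1) := h (e i)
    exact Module.Projective.of_equiv
      (IsLocalizedModule.isBaseChange (Submonoid.powers (e i).1) (B i) (resL F (e i).1)).equiv.symm

/-- Projectivity of sections spreads from one affine cover to every affine open. -/
theorem projective_of_cover [Coh.IsQCoh F] {ι : Type*} (U : ι → X.Opens) (hcov : (⨆ i, U i) = ⊤)
    (hU : ∀ i, IsAffineOpen (U i)) (h : ∀ i, Module.Projective Γ(X, U i) Γ(F, U i))
    {V : X.Opens} (hV : IsAffineOpen V) : Module.Projective Γ(X, V) Γ(F, V) :=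
  of_affine_open_cover (P := fun W : X.affineOpens => Module.Projective Γ(X, W.1) Γ(F, W.1))
    (fun i => (⟨U i, hU i⟩ : X.affineOpens)) hcov ⟨V, hV⟩
    (fun W f hW => haveI : Module.Projective Γ(X, W.1) Γ(F, W.1) := hW; projective_basicOpen F W.2 f)
    (fun W s hs hf => projective_of_span F W.2 s hs hf) h

end Groth.Agent.ProjLocal
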